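import Mathlib.RingTheory.KrullDimension.Module
import Mathlib.RingTheory.Ideal.AssociatedPrime.Localization

/-!
# Dimension of supports: monotonicity and unions
-/

set_option autoImplicit false
universe u

namespace Groth.Agent.SuppDim

variable {R : Type u} [CommRing R]
variable {A B C : Type u} [AddCommGroup A] [Module R A] [AddCommGroup B] [Module R B] [AddCommGroup C] [Module R C]

lemma supportDim_mono (h : Module.support R A ⊆ Module.support R B) :
    Module.supportDim R A ≤ Module.supportDim R B :=
  Order.krullDim_le_of_strictMono (Set.inclusion h) fun _ _ hlt => hlt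

lemma supportDim_lt_of_subset_union {n : ℕ} (hA : Module.supportDim R A < n) (hB : Module.supportDim R B < n)
    (h : Module.support R C ⊆ Module.support R A ∪ Module.support R B) :
    Module.supportDim R C < n := by
  by_contra hge
  rw [not_lt] at hge
  obtain ⟨s, hs⟩ := Order.le_krullDim_iff.mp hge
  have key : ∀ (D : Type u) [AddCommGroup D] [Module R D], s.head.1 ∈ Module.support R D →
      (n : WithBot ℕ∞) ≤ Module.supportDim R D := by
    intro D _ _ hD
    let t : LTSeries (Module.support R D) :=
      { length := s.length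
        toFun := fun i => ⟨(s i).1, Module.mem_support_mono (s.monotone (Fin.zero_le i)) hD⟩
        step := fun i => s.step i }
    exact Order.le_krullDim_iff.mpr ⟨t, hs⟩
  rcases h s.head.2 with hA' | hB'
  · exact absurd (key A hA') (not_le.2 hA)
  · exact absurd (key B hB') (not_le.2 hB)

lemma ringKrullDim_quotient_le_supportDim [Module.Finite R A] {p : PrimeSpectrum R} (hp : p ∈ Module.support R A) :
    ringKrullDim (R ⧸ p.asIdeal) ≤ Module.supportDim R A := by
  rw [← Module.supportDim_quotient_eq_ringKrullDim]
  refine supportDim_mono fun q hq => Module.mem_support_mono ?_ hp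
  rw [Module.support_eq_zeroLocus, Ideal.annihilator_quotient] at hq
  exact hq

lemma supportDim_span_singleton_le {p : Ideal R} {a : A}
    (h : p = Submodule.colon (⊥ : Submodule R A) {a}) :
    Module.supportDim R (Submodule.span R {a}) ≤ ringKrullDim (R ⧸ p) := by
  rw [← Module.supportDim_quotient_eq_ringKrullDim]
  let f : (R ⧸ p) →ₗ[R] Submodule.span R {a} :=
    Submodule.liftQ p (LinearMap.toSpanSingleton R _ ⟨a, Submodule.mem_span_singleton_self a⟩) (by
      rw [h]
      intro r hr
      rw [Submodule.mem_colon_singleton, Submodule.mem_bot] at hr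
      exact Subtype.ext hr)
  refine Module.supportDim_le_of_surjective f ?_
  rintro ⟨y, hy⟩
  obtain ⟨r, rfl⟩ := Submodule.mem_span_singleton.1 hy
  exact ⟨Submodule.Quotient.mk r, rfl⟩

lemma mem_minimalPrimes_annihilator [Module.Finite R A] {n : ℕ} (hA : Module.supportDim R A = n)
    {p : PrimeSpectrum R} (hp : p ∈ Module.support R A) (hdim : ringKrullDim (R ⧸ p.asIdeal) = n) :
    p.asIdeal ∈ (Module.annihilator R A).minimalPrimes := by
  refine ⟨⟨p.isPrime, Module.annihilator_le_of_mem_support hp⟩, fun q ⟨hq, hle⟩ hqp => ?_⟩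
  by_contra hne
  have hlt : (⟨q, hq⟩ : PrimeSpectrum R) < p := lt_of_le_not_ge hqp hne
  have hqs : (⟨q, hq⟩ : PrimeSpectrum R) ∈ Module.support R A := by
    rw [Module.support_eq_zeroLocus]; exact hle
  rw [ringKrullDim_quotient] at hdim
  obtain ⟨s, hs⟩ := Order.le_krullDim_iff.mp hdim.ge
  let t : LTSeries (Module.support R A) :=
    (RelSeries.cons
      { length := s.length
        toFun := fun i => ⟨(s i).1, Module.mem_support_mono (show p ≤ (s i).1 from (s i).2) hp⟩
        step := fun i => s.step i } ⟨⟨q, hq⟩, hqs⟩ (lt_of_lt_of_le hlt (show p ≤ (s 0).1 from (s 0).2)))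
  have h1 : ((n + 1 : ℕ) : WithBot ℕ∞) ≤ Module.supportDim R A :=
    Order.le_krullDim_iff.mpr ⟨t, by simp [t, hs]⟩
  rw [hA] at h1
  norm_cast at h1
  omega

end Groth.Agent.SuppDim
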